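import Groth.Agent.CechFil.Concrete
import Groth.Agent.AcycHyper7.Basic
import Groth.Agent.PerfGen7.DoubleQis
import Groth.Prelude.Def_CechTot
import Mathlib.Algebra.Homology.TotalComplexSymmetry

/-!
Čech hypercohomology of a complex with terms acyclic on the intersections.
-/

set_option autoImplicit false
set_option backward.isDefEq.respectTransparency false
set_option backward.isDefEq.respectTransparency.types false
set_option linter.style.haveILetI false

universe u

open CategoryTheory CategoryTheory.Limits Opposite TopologicalSpace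
open Groth.Agent.SiteBase Groth.Agent.CechFil Groth.Agent.PerfGen7

noncomputable section

namespace Groth.Agent.CechTotLib

variable {X : TopCat.{u}} {ι : Type u} (U : ι → Opens X)

abbrev e0 := ComplexShape.embeddingUpNat

lemma e0f (n : ℕ) : e0.f n = (n : ℤ) := rfl

lemma e0f0 : e0.f 0 = (0 : ℤ) := rfl

lemma e0f1 : e0.f 1 = (1 : ℤ) := rfl

/-- Čech cochains of a sheaf, extended by zero to negative degrees. -/
abbrev extCx : CohTop.Ab X ⥤ CochainComplex AddCommGrpCat.{u} ℤ :=
  sheafToPresheaf (Opens.grothendieckTopology X) AddCommGrpCat.{u} ⋙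
    (cechComplexFunctor (A := AddCommGrpCat.{u}) U ⋙ e0.extendFunctor AddCommGrpCat.{u})

/-- Čech cochains of a given degree. -/
abbrev T (n : ℕ) : CohTop.Ab X ⥤ AddCommGrpCat.{u} :=
  sheafToPresheaf (Opens.grothendieckTopology X) AddCommGrpCat.{u} ⋙
    cechComplexFunctor (A := AddCommGrpCat.{u}) U ⋙ HomologicalComplex.eval _ _ n

lemma T_map {M N : CohTop.Ab X} (f : M ⟶ N) (n : ℕ) (σ : Fin (n + 1) → ι) (x : (T U n).obj M) :
    cev U N.obj n σ (((T U n).map f).hom x) = (f.hom.app (op (box U σ))).hom (cev U M.obj n σ x) :=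
  cev_map U M.obj f.hom n σ x

instance (n : ℕ) : (T U n).Additive where
  map_add {M N f g} := AddCommGrpCat.ext fun x => cev_ext U N.obj fun σ => by
    refine (T_map U (f + g) n σ x).trans ?_
    refine Eq.trans ?_ (map_add (cev U N.obj n σ) _ _).symm
    exact congrArg₂ (· + ·) (T_map U f n σ x).symm (T_map U g n σ x).symm

variable [HasDerivedCategory.{u} (CohTop.Ab X)]

/-- Acyclic on all intersections of a given length. -/
def Acy (n : ℕ) (M : CohTop.Ab X) : Prop :=
  ∀ σ : Fin (n + 1) → ι, AcycHyper7.CdLE 1 (box U σ) M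

omit [HasDerivedCategory.{u} (CohTop.Ab X)] in
lemma isAdapted_T (n : ℕ) : TriCat.IsAdapted (T U n) (Acy U n) where
  zero Z hZ σ := AcycHyper7.cdLE_of_isZero 1 _ hZ
  ses S hS h₁ h₂ := by
    refine ⟨fun σ => AcycHyper7.cdLE_X₃ hS (h₁ σ) (h₂ σ), fun w => ?_⟩
    have sec : ∀ σ : Fin (n + 1) → ι,
        (S.map (sheafToPresheaf (Opens.grothendieckTopology X) AddCommGrpCat.{u} ⋙
          (evaluation _ AddCommGrpCat.{u}).obj (op (box U σ)))).ShortExact := fun σ =>
      ((AcycHyper7.isAdapted (box U σ)).ses S hS (h₁ σ) (h₂ σ)).2 _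
    exact
      { exact := (ShortComplex.ab_exact_iff _).2 fun x hx => by
          have hy : ∀ σ : Fin (n + 1) → ι,
              ∃ y, (S.f.hom.app (op (box U σ))).hom y = cev U S.X₂.obj n σ x := fun σ =>
            (ShortComplex.ab_exact_iff _).1 (sec σ).exact (cev U S.X₂.obj n σ x) (by
              refine (T_map U S.g n σ x).symm.trans ?_
              exact (congrArg (cev U S.X₃.obj n σ) hx).trans (map_zero _))
          choose y hy using hy
          obtain ⟨z, hz⟩ := exists_cev U S.X₁.obj y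
          exact ⟨z, cev_ext U S.X₂.obj fun σ => (T_map U S.f n σ z).trans ((congrArg _ (hz σ)).trans (hy σ))⟩
        mono_f := (AddCommGrpCat.mono_iff_injective _).2 fun a b hab => cev_ext U S.X₁.obj fun σ =>
          (AddCommGrpCat.mono_iff_injective _).1 (sec σ).mono_f
            ((T_map U S.f n σ a).symm.trans ((congrArg (cev U S.X₂.obj n σ) hab).trans (T_map U S.f n σ b)))
        epi_g := (AddCommGrpCat.epi_iff_surjective _).2 fun z => by
          choose y hy using fun σ => (AddCommGrpCat.epi_iff_surjective _).1 (sec σ).epi_g (cev U S.X₃.obj n σ z)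
          obtain ⟨v, hv⟩ := exists_cev U S.X₂.obj y
          exact ⟨v, cev_ext U S.X₃.obj fun σ => (T_map U S.g n σ v).trans ((congrArg _ (hv σ)).trans (hy σ))⟩ }

/-- Rows of the extended bicomplex. -/
def rowIso (n : ℕ) : extCx U ⋙ HomologicalComplex.eval _ _ (n : ℤ) ≅ T U n :=
  NatIso.ofComponents
    (fun M => ((cechComplexFunctor (A := AddCommGrpCat.{u}) U).obj M.obj).extendXIso e0 (e0f n))
    fun {M N} f => by
      show (HomologicalComplex.extendMap ((cechComplexFunctor (A := AddCommGrpCat.{u}) U).map f.hom) e0).f (n : ℤ) ≫ _ = _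
      rw [HomologicalComplex.extendMap_f _ e0 (e0f n), Category.assoc, Category.assoc, Iso.inv_hom_id, Category.comp_id]
      rfl

omit [HasDerivedCategory.{u} (CohTop.Ab X)] in
lemma isZero_extCx_neg (M : CohTop.Ab X) (q : ℤ) (hq : q < 0) : IsZero (((extCx U).obj M).X q) :=
  HomologicalComplex.isZero_extend_X _ _ _ fun i hi => by
    change (i : ℤ) = q at hi
    omega

instance : (extCx U).PreservesZeroMorphisms where

/-- The Čech bicomplex of a complex of sheaves. -/
abbrev bi (K : CochainComplex (CohTop.Ab X) ℤ) :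
    HomologicalComplex₂ AddCommGrpCat.{u} (ComplexShape.up ℤ) (ComplexShape.up ℤ) :=
  CechTot.cech₂ U ((CechTot.presheafCx X).obj K)

omit [HasDerivedCategory.{u} (CohTop.Ab X)] in
lemma isZero_bi (K : CochainComplex (CohTop.Ab X) ℤ) (a : ℤ) (ha : ∀ i < a, IsZero (K.X i)) (p q : ℤ)
    (h : p < a ∨ q < 0) : IsZero (((bi U K).X p).X q) := by
  rcases h with h | h
  · exact (extCx U ⋙ HomologicalComplex.eval _ _ q).map_isZero (ha p h)
  · exact isZero_extCx_neg U (K.X p) q h

variable {K I : CochainComplex (CohTop.Ab X) ℤ}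

/-- The Čech bicomplex of an acyclic complex computes that of its resolution. -/
theorem quasiIso_map (s : K ⟶ I) [QuasiIso s] (hm : ∀ m, Mono (s.f m)) (a : ℤ) [K.IsStrictlyGE a]
    [I.IsStrictlyGE a] (hK : ∀ n m, Acy U n (K.X m)) (hI : ∀ n m, Acy U n (I.X m)) :
    QuasiIso (DoubleQis.mapT (bi U I)
      (((cechComplexFunctor (A := AddCommGrpCat.{u}) U ⋙ e0.extendFunctor _).mapHomologicalComplex _).map
        ((CechTot.presheafCx X).map s))) := by
  refine DoubleQis.quasiIso_total _ _ a 0 (isZero_bi U K a fun i hi => K.isZero_of_isStrictlyGE a i hi)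
    (isZero_bi U I a fun i hi => I.isZero_of_isStrictlyGE a i hi) fun q => ?_
  show QuasiIso (((extCx U ⋙ HomologicalComplex.eval _ _ q).mapHomologicalComplex _).map s)
  rcases lt_or_ge q 0 with hq | hq
  · refine ⟨fun i => ?_⟩
    rw [quasiIsoAt_iff_exactAt]
    · exact HomologicalComplex.ExactAt.of_isZero (isZero_extCx_neg U (I.X i) q hq)
    · exact HomologicalComplex.ExactAt.of_isZero (isZero_extCx_neg U (K.X i) q hq)
  · obtain ⟨n, rfl⟩ := Int.eq_ofNat_of_zero_le hq
    haveI := TriCat.quasiIso_map_of_adapted (isAdapted_T U n) s hm a (hK n) (hI n)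
    exact quasiIso_of_arrow_mk_iso (((T U n).mapHomologicalComplex (ComplexShape.up ℤ)).map s) _
      (Arrow.isoMk ((NatIso.mapHomologicalComplex (rowIso U n) _).app K).symm
        ((NatIso.mapHomologicalComplex (rowIso U n) _).app I).symm
        ((NatIso.mapHomologicalComplex (rowIso U n) (ComplexShape.up ℤ)).inv.naturality s).symm)

/-! ### The augmentation -/

/-- Global sections. -/
abbrev glob : CohTop.Ab X ⥤ AddCommGrpCat.{u} := AcycHyper7.sec (⊤ : Opens X)

/-- The augmentation by global sections. -/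
def ε (M : CohTop.Ab X) : glob.obj M ⟶ (T U 0).obj M :=
  Pi.lift (f := fun σ : Fin 1 → ι => M.obj.obj (op (box U σ))) fun σ =>
    M.obj.map (homOfLE (le_top : box U σ ≤ ⊤)).op

omit [HasDerivedCategory.{u} (CohTop.Ab X)] in
lemma cev_ε (M : CohTop.Ab X) (σ : Fin 1 → ι) (s : M.obj.obj (op ⊤)) :
    cev U M.obj 0 σ ((ε U M).hom s) = (M.obj.map (homOfLE (le_top : box U σ ≤ ⊤)).op).hom s :=
  ConcreteCategory.congr_hom (Pi.lift_π (f := fun σ : Fin 1 → ι => M.obj.obj (op (box U σ))) _ σ) s

lemma ε_d (M : CohTop.Ab X) :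
    ε U M ≫ ((cechComplexFunctor (A := AddCommGrpCat.{u}) U).obj M.obj).d 0 1 = 0 :=
  AddCommGrpCat.ext fun s => cev_ext U M.obj fun σ => by
    show cev U M.obj 1 σ ((((cechComplexFunctor (A := AddCommGrpCat.{u}) U).obj M.obj).d 0 1).hom
      ((ε U M).hom s)) = cev U M.obj 1 σ 0
    rw [map_zero, cd_zero, sub_eq_zero, cev_ε, cev_ε]
    erw [Groth.Agent.QCoh.Ab.map_map'' M.obj _ _ (homOfLE le_top),
      Groth.Agent.QCoh.Ab.map_map'' M.obj _ _ (homOfLE le_top)]

/-- The augmentation, as a natural transformation of functors to complexes. -/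
def η : glob (X := X) ⋙ HomologicalComplex.single AddCommGrpCat.{u} (ComplexShape.up ℤ) 0 ⟶ extCx U where
  app M := HomologicalComplex.mkHomFromSingle
    (ε U M ≫ (((cechComplexFunctor (A := AddCommGrpCat.{u}) U).obj M.obj).extendXIso e0 e0f0).inv)
    (fun k hk => by
      change (0 : ℤ) + 1 = k at hk
      obtain rfl : k = (1 : ℤ) := by omega
      show _ ≫ ((((cechComplexFunctor (A := AddCommGrpCat.{u}) U).obj M.obj)).extend e0).d 0 _ = 0
      rw [HomologicalComplex.extend_d_eq _ e0 e0f0 e0f1]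
      simp [reassoc_of% ε_d U M])
  naturality M N f := by
    refine HomologicalComplex.from_single_hom_ext ?_
    simp only [Functor.comp_map, HomologicalComplex.comp_f, HomologicalComplex.single_map_f_self,
      Category.assoc, HomologicalComplex.mkHomFromSingle_f]
    rw [show ((e0.extendFunctor AddCommGrpCat.{u}).map ((cechComplexFunctor (A := AddCommGrpCat.{u}) U).map
        ((sheafToPresheaf (Opens.grothendieckTopology X) AddCommGrpCat.{u}).map f))).f 0 = _ from
      HomologicalComplex.extendMap_f _ e0 e0f0]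
    simp only [Iso.inv_hom_id_assoc, Category.assoc]
    have e : glob.map f ≫ ε U N = ε U M ≫ (T U 0).map f :=
      AddCommGrpCat.ext fun s => cev_ext U N.obj fun σ => by
        refine (cev_ε U N σ _).trans ?_
        refine Eq.trans ?_ (T_map U f 0 σ _).symm
        refine Eq.trans ?_ (congrArg (f.hom.app (op (box U σ))).hom (cev_ε U M σ s)).symm
        exact (congrArg (fun t => t.hom s) (f.hom.naturality (homOfLE (le_top : box U σ ≤ ⊤)).op)).symm
    erw [reassoc_of% e, Iso.inv_hom_id_assoc]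
    rfl

variable (I) [CochainComplex.IsKInjective I]

omit [HasDerivedCategory.{u} (CohTop.Ab X)] [CochainComplex.IsKInjective I] in
/-- The total of a bicomplex concentrated in one row. -/
theorem nonempty_total_single (S : CochainComplex AddCommGrpCat.{u} ℤ) :
    Nonempty (S ≅ HomologicalComplex₂.total
      (((HomologicalComplex.single AddCommGrpCat.{u} (ComplexShape.up ℤ) 0).mapHomologicalComplex
        (ComplexShape.up ℤ)).obj S) (ComplexShape.up ℤ)) := by
  let B : HomologicalComplex₂ AddCommGrpCat.{u} (ComplexShape.up ℤ) (ComplexShape.up ℤ) :=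
    ((HomologicalComplex.single AddCommGrpCat.{u} (ComplexShape.up ℤ) 0).mapHomologicalComplex
      (ComplexShape.up ℤ)).obj S
  let j : ∀ n : ℤ, S.X n ⟶ (DoubleQis.Tot B).X n := fun n =>
    (HomologicalComplex.singleObjXSelf (ComplexShape.up ℤ) 0 (S.X n)).inv ≫ DoubleQis.ι B n 0 n (add_zero n)
  have hz : ∀ p q : ℤ, q ≠ 0 → IsZero ((B.X p).X q) := fun p q hq =>
    HomologicalComplex.isZero_single_obj_X _ 0 _ q hq
  have hj : ∀ n, IsIso (j n) := fun n =>
    ⟨⟨DoubleQis.π B n 0 n ≫ (HomologicalComplex.singleObjXSelf (ComplexShape.up ℤ) 0 (S.X n)).hom, by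
      simp only [j, Category.assoc]
      rw [reassoc_of% DoubleQis.ι_π B]
      exact Iso.inv_hom_id _, by
      refine HomologicalComplex₂.total.hom_ext _ fun p q hpq => ?_
      have hpq' : p + q = n := hpq
      change DoubleQis.ι B p q n hpq' ≫ _ = DoubleQis.ι B p q n hpq' ≫ _
      by_cases hq : q = 0
      · subst hq
        obtain rfl : p = n := by omega
        simp only [j, Category.assoc, Iso.hom_inv_id_assoc]
        rw [reassoc_of% DoubleQis.ι_π B]
        exact (Category.comp_id _).symm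
      · exact (hz p q hq).eq_of_src _ _⟩⟩
  refine ⟨HomologicalComplex.Hom.isoOfComponents (fun n => haveI := hj n; asIso (j n)) fun n n' hn => ?_⟩
  change n + 1 = n' at hn
  subst hn
  show j n ≫ (DoubleQis.Tot B).d n (n + 1) = S.d n (n + 1) ≫ j (n + 1)
  simp only [j, Category.assoc]
  rw [DoubleQis.ι_d B n 0 n (add_zero n) (n + 1) rfl]
  have h1 : (B.X n).d 0 (0 + 1) = 0 := (hz n (0 + 1) (by omega)).eq_of_tgt _ _
  rw [h1, zero_comp, smul_zero, add_zero]
  show _ ≫ (((HomologicalComplex.single AddCommGrpCat.{u} (ComplexShape.up ℤ) 0).map (S.d n (n + 1))).f 0) ≫ _ = _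
  rw [HomologicalComplex.single_map_f_self]
  simp only [Category.assoc, Iso.inv_hom_id_assoc]

variable {I}

include I in
theorem quasiIso_η (hcov : iSup U = ⊤) (hI : ∀ r, Injective (I.X r)) (r : ℤ) :
    QuasiIso ((η U).app (I.X r)) := by
  let C := (cechComplexFunctor (A := AddCommGrpCat.{u}) U).obj (I.X r).obj
  have hC : ∀ p : ℕ, C.ExactAt (p + 1) := fun p => by
    rw [HomologicalComplex.exactAt_iff' _ p (p + 1) (p + 1 + 1) (by simp) (by simp),
      ShortComplex.ab_exact_iff]
    exact exists_d_eq I U hI p r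
  have haug : ∀ s, (ε U (I.X r)).hom s = augC I U r s := fun s => cev_ext U (I.X r).obj fun σ =>
    (cev_ε U _ σ s).trans (cev_augC I U r σ s).symm
  refine ⟨fun i => ?_⟩
  rcases lt_trichotomy i 0 with hi | rfl | hi
  · rw [quasiIsoAt_iff_exactAt]
    · exact HomologicalComplex.ExactAt.of_isZero (isZero_extCx_neg U (I.X r) i hi)
    · exact HomologicalComplex.exactAt_single_obj _ _ _ _ (by omega)
  · rw [quasiIsoAt_iff' _ (-1) 0 1 (by simp) (by simp)]
    have hz : IsZero (((extCx U).obj (I.X r)).X (-1)) := isZero_extCx_neg U (I.X r) (-1) (by omega)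
    let B := (HomologicalComplex.single AddCommGrpCat.{u} (ComplexShape.up ℤ) 0).obj ((glob (X := X)).obj (I.X r))
    have hs₁ : B.d (-1) 0 = 0 :=
      (HomologicalComplex.isZero_single_obj_X (ComplexShape.up ℤ) 0 _ (-1) (by omega)).eq_of_src _ _
    have hs₂ : B.d 0 1 = 0 :=
      (HomologicalComplex.isZero_single_obj_X (ComplexShape.up ℤ) 0 _ 1 (by omega)).eq_of_tgt _ _
    rw [ShortComplex.quasiIso_iff_of_zeros _ hs₁ hs₂ (hz.eq_of_src _ _)]
    let e := C.extendXIso e0 e0f0
    let e₁ := C.extendXIso e0 e0f1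
    let s₀ := HomologicalComplex.singleObjXSelf (ComplexShape.up ℤ) 0 ((glob (X := X)).obj (I.X r))
    have hf : ((η U).app (I.X r)).f 0 = s₀.hom ≫ ε U (I.X r) ≫ e.inv := by
      simp [η, s₀, e, C]
    have hd : (C.extend e0).d 0 1 = e.hom ≫ C.d 0 1 ≫ e₁.inv := C.extend_d_eq e0 e0f0 e0f1
    haveI hmono : Mono (ε U (I.X r)) := (AddCommGrpCat.mono_iff_injective _).2 fun a b hab =>
      augC_injective I U hcov r ((haug a).symm.trans (hab.trans (haug b)))
    have hex : (ShortComplex.mk (ε U (I.X r)) (C.d 0 1) (ε_d U _)).Exact :=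
      (ShortComplex.ab_exact_iff _).2 fun x hx => by
        obtain ⟨s, hs⟩ := exists_augC_eq I U hcov r x hx
        exact ⟨s, (haug s).trans hs⟩
    refine ⟨ShortComplex.exact_of_iso ?_ hex, ?_⟩
    · exact ShortComplex.isoMk s₀.symm e.symm e₁.symm
        (by
          show s₀.inv ≫ ((η U).app (I.X r)).f 0 = ε U (I.X r) ≫ e.inv
          rw [hf, Iso.inv_hom_id_assoc])
        (by
          show e.inv ≫ (C.extend e0).d 0 1 = C.d 0 1 ≫ e₁.inv
          rw [hd, Iso.inv_hom_id_assoc])
    · show Mono (((η U).app (I.X r)).f 0)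
      rw [hf]
      infer_instance
  · obtain ⟨p, rfl⟩ : ∃ p : ℕ, i = ((p + 1 : ℕ) : ℤ) := ⟨(i - 1).toNat, by omega⟩
    rw [quasiIsoAt_iff_exactAt]
    · exact (C.extend_exactAt_iff e0 (e0f (p + 1))).2 (hC p)
    · exact HomologicalComplex.exactAt_single_obj _ _ _ _ (by omega)

/-- Čech hypercohomology of a complex of injectives is that of its global sections. -/
theorem nonempty_injective (hcov : iSup U = ⊤) (hI : ∀ r, Injective (I.X r)) (a : ℤ) [I.IsStrictlyGE a]
    (n : ℤ) :
    Nonempty ((CechTot.hyperH U ((CechTot.presheafCx X).obj I) n) ≅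
      (AcycHyper7.secCx (⊤ : Opens X) I).homology n) := by
  let B : HomologicalComplex₂ AddCommGrpCat.{u} (ComplexShape.up ℤ) (ComplexShape.up ℤ) :=
    ((HomologicalComplex.single AddCommGrpCat.{u} (ComplexShape.up ℤ) 0).mapHomologicalComplex
      (ComplexShape.up ℤ)).obj (AcycHyper7.secCx (⊤ : Opens X) I)
  let φ : B ⟶ bi U I := (NatTrans.mapHomologicalComplex (η U) (ComplexShape.up ℤ)).app I
  let φ' : B.flip ⟶ (bi U I).flip := (HomologicalComplex₂.flipFunctor _ _ _).map φ
  haveI : QuasiIso (DoubleQis.mapT (bi U I).flip φ') := by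
    refine DoubleQis.quasiIso_total _ _ 0 a (fun p q h => ?_) (fun p q h => isZero_bi U I a
      (fun i hi => I.isZero_of_isStrictlyGE a i hi) q p h.symm) fun q => ?_
    · show IsZero ((B.X q).X p)
      rcases h with h | h
      · exact HomologicalComplex.isZero_single_obj_X _ 0 _ p (by omega)
      · exact ((glob (X := X)) ⋙ HomologicalComplex.single AddCommGrpCat.{u} (ComplexShape.up ℤ) 0 ⋙
          HomologicalComplex.eval _ _ p).map_isZero (I.isZero_of_isStrictlyGE a q h)
    · haveI := quasiIso_η U hcov hI q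
      refine quasiIso_of_arrow_mk_iso ((η U).app (I.X q)) _ (Arrow.isoMk
        (HomologicalComplex.Hom.isoOfComponents (fun _ => Iso.refl _) fun _ _ _ => by
          exact (Category.id_comp _).trans (Category.comp_id _).symm)
        (HomologicalComplex.Hom.isoOfComponents (fun _ => Iso.refl _) fun _ _ _ => by
          exact (Category.id_comp _).trans (Category.comp_id _).symm) ?_)
      ext j : 1
      exact (Category.id_comp _).trans (Category.comp_id _).symm
  obtain ⟨e⟩ := nonempty_total_single (AcycHyper7.secCx (⊤ : Opens X) I)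
  exact ⟨((e ≪≫ (B.totalFlipIso (ComplexShape.up ℤ)).symm) |> fun j =>
      (HomologicalComplex.homologyFunctor _ _ n).mapIso j ≪≫
        isoOfQuasiIsoAt (DoubleQis.mapT (bi U I).flip φ') n ≪≫
        (HomologicalComplex.homologyFunctor _ _ n).mapIso ((bi U I).totalFlipIso (ComplexShape.up ℤ))).symm⟩

omit [CochainComplex.IsKInjective I] in
/-- Čech hypercohomology of a complex with acyclic terms. -/
theorem nonempty_addEquiv (hcov : iSup U = ⊤) (K : CochainComplex (CohTop.Ab X) ℤ) (a : ℤ)
    [K.IsStrictlyGE a] (h : ∀ n m, Acy U n (K.X m)) (n : ℤ) :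
    Nonempty (↑(CechTot.hyperH U ((CechTot.presheafCx X).obj K) n) ≃+
      CohCx.HDU (DerivedCategory.Q.obj K) n (⊤ : Opens X)) := by
  obtain ⟨J, s, hGE, hinj, hm, hs, he⟩ := AcycHyper7.exists_resolution (⊤ : Opens X) K a
  haveI := hGE
  haveI := hs
  haveI : J.IsKInjective := by
    haveI := hinj
    exact CochainComplex.isKInjective_of_injective _ a
  haveI := quasiIso_map U s hm a h (fun n m σ => @AcycHyper7.cdLE_of_injective _ _ _ 1 _ _ (hinj m))
  obtain ⟨e⟩ := nonempty_injective U (I := J) hcov hinj a n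
  exact ⟨(isoOfQuasiIsoAt (DoubleQis.mapT (bi U J)
    (((cechComplexFunctor (A := AddCommGrpCat.{u}) U ⋙ e0.extendFunctor _).mapHomologicalComplex _).map
      ((CechTot.presheafCx X).map s))) n ≪≫ e ≪≫ (he n).some.symm).addCommGroupIsoToAddEquiv⟩

end Groth.Agent.CechTotLib
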